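import Groth.Agent.L14.RatCurveBinary.Basic
import Groth.Agent.L03.PlanePoints
import Mathlib.LinearAlgebra.FiniteDimensional.Lemmas
import Mathlib.LinearAlgebra.Dimension.Constructions
import Mathlib.FieldTheory.IsAlgClosed.Basic

/-!
Linear systems of binary forms.
-/

set_option autoImplicit false
universe u

open MvPolynomial

namespace Groth.L28.BinaryForm

variable {K : Type u} [Field K]

/-- Binary forms of degree `d`. -/
abbrev S (K : Type u) [Field K] (d : ℕ) : Submodule K (MvPolynomial (Fin 2) K) :=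
  homogeneousSubmodule (Fin 2) K d

lemma finrank_S (d : ℕ) : Module.finrank K (S K d) = d + 1 := by
  rw [(Groth.L03.PlanePoints.finrank_homogeneous (F := K) 1 d).2, Nat.choose_one_right]

instance finite_S (d : ℕ) : Module.Finite K (S K d) :=
  (Groth.L03.PlanePoints.finrank_homogeneous (F := K) 1 d).1

lemma mul_mem_S {p q : ℕ} {a b : MvPolynomial (Fin 2) K} (ha : a ∈ S K p) (hb : b ∈ S K q) {n : ℕ}
    (hn : p + q = n) : a * b ∈ S K n :=
  (mem_homogeneousSubmodule _ _).2 (hn ▸ ((mem_homogeneousSubmodule _ _).1 ha).mul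
    ((mem_homogeneousSubmodule _ _).1 hb))

/-- The multiples of a form. -/
noncomputable abbrev mulS (g : MvPolynomial (Fin 2) K) (d : ℕ) : Submodule K (MvPolynomial (Fin 2) K) :=
  (S K d).map (LinearMap.mulLeft K g)

lemma mulS_le {p q n : ℕ} {g : MvPolynomial (Fin 2) K} (hg : g ∈ S K p) (hn : p + q = n) :
    mulS g q ≤ S K n := by
  rintro _ ⟨x, hx, rfl⟩
  exact mul_mem_S hg hx hn

lemma finrank_mulS {g : MvPolynomial (Fin 2) K} (hg : g ≠ 0) (d : ℕ) :
    Module.finrank K (mulS g d) = d + 1 := by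
  rw [← (Submodule.equivMapOfInjective (LinearMap.mulLeft K g)
    (fun _ _ h => mul_left_cancel₀ hg h) (S K d)).finrank_eq, finrank_S]

lemma mem_mulS {g x : MvPolynomial (Fin 2) K} {d : ℕ} :
    x ∈ mulS g d ↔ ∃ y ∈ S K d, g * y = x := Iff.rfl

lemma eq_zero_of_dvd {p q : ℕ} {a y : MvPolynomial (Fin 2) K} (ha : a ∈ S K p) (ha0 : a ≠ 0)
    (hy : y ∈ S K q) (hqp : q < p) (h : a ∣ y) : y = 0 := by
  by_contra hy0
  obtain ⟨z, rfl⟩ := h
  have h1 := ((mem_homogeneousSubmodule _ _).1 hy).totalDegree hy0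
  rw [totalDegree_mul_of_isDomain ha0 (right_ne_zero_of_mul hy0),
    ((mem_homogeneousSubmodule _ _).1 ha).totalDegree ha0] at h1
  omega

/-- Coprime forms span all forms of large degree. -/
theorem sup_eq_of_isRelPrime {p q n : ℕ} {a b : MvPolynomial (Fin 2) K} (ha : a ∈ S K p)
    (hb : b ∈ S K q) (ha0 : a ≠ 0) (hb0 : b ≠ 0) (hab : IsRelPrime a b) (hp : p ≤ n) (hq : q ≤ n)
    (hn : n + 1 = p + q) : mulS a (n - p) ⊔ mulS b (n - q) = S K n := by
  have hle : mulS a (n - p) ⊔ mulS b (n - q) ≤ S K n :=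
    sup_le (mulS_le ha (by omega)) (mulS_le hb (by omega))
  refine Submodule.eq_of_le_of_finrank_eq hle ?_
  have hinf : mulS a (n - p) ⊓ mulS b (n - q) = ⊥ := by
    rw [eq_bot_iff]
    rintro _ ⟨⟨x, hx, rfl⟩, ⟨y, hy, hxy⟩⟩
    have hxy' : b * y = a * x := hxy
    have hd : a ∣ y := hab.dvd_of_dvd_mul_left ⟨x, hxy'⟩
    have hy0 := eq_zero_of_dvd ha ha0 hy (by omega) hd
    rw [hy0, mul_zero] at hxy'
    rw [Submodule.mem_bot]
    exact hxy'.symm
  have := Submodule.finrank_sup_add_finrank_inf_eq (mulS a (n - p)) (mulS b (n - q))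
  rw [hinf, finrank_bot, add_zero, finrank_mulS ha0, finrank_mulS hb0] at this
  rw [this, finrank_S]
  omega

variable [IsAlgClosed K]

/-- A linear form vanishing at a point divides the forms vanishing there. -/
theorem exists_linear_dvd {a : Fin 2 → K} (ha : a ≠ 0) :
    ∃ L ∈ S K 1, L ≠ 0 ∧ ∀ (n : ℕ) (F : MvPolynomial (Fin 2) K), F ∈ S K (n + 1) → eval a F = 0 →
      ∃ G ∈ S K n, F = L * G := by
  set L : MvPolynomial (Fin 2) K := C (a 1) * X 0 - C (a 0) * X 1 with hL
  have hL1 : L ∈ S K 1 :=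
    (mem_homogeneousSubmodule _ _).2 (((isHomogeneous_X K 0).C_mul _).sub ((isHomogeneous_X K 1).C_mul _))
  have hL0 : L ≠ 0 := fun h => ha (funext fun j => by
    have h0 := congrArg (eval ![(1 : K), 0]) h
    have h1 := congrArg (eval ![(0 : K), 1]) h
    simp [hL] at h0 h1
    fin_cases j <;> assumption)
  refine ⟨L, hL1, hL0, fun n F hF hFa => ?_⟩
  have hdvd : L ∣ F := by
    set q := Ideal.Quotient.mk (Ideal.span {L})
    have hq : q (C (a 1)) * q (X 0) = q (C (a 0)) * q (X 1) := by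
      rw [← map_mul, ← map_mul, Ideal.Quotient.eq, Ideal.mem_span_singleton]
    obtain ⟨T, hT⟩ : ∃ T, ∀ j, q (X j) = q (C (a j) * T) := by
      by_cases h1 : a 1 = 0
      · have h0 : a 0 ≠ 0 := fun h0 => ha (funext fun j => by fin_cases j <;> assumption)
        refine ⟨C (a 0)⁻¹ * X 0, fun j => ?_⟩
        have e : q (C (a 0)⁻¹) * q (C (a 0)) = 1 := by rw [← map_mul, ← C_mul, inv_mul_cancel₀ h0]; simp
        fin_cases j
        · simp only [map_mul]
          show q (X 0) = q (C (a 0)) * (q (C (a 0)⁻¹) * q (X 0))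
          linear_combination (-q (X 0)) * e
        · simp only [map_mul]
          show q (X 1) = q (C (a 1)) * (q (C (a 0)⁻¹) * q (X 0))
          linear_combination (-q (X 1)) * e - q (C (a 0)⁻¹) * hq
      · refine ⟨C (a 1)⁻¹ * X 1, fun j => ?_⟩
        have e : q (C (a 1)⁻¹) * q (C (a 1)) = 1 := by rw [← map_mul, ← C_mul, inv_mul_cancel₀ h1]; simp
        fin_cases j
        · simp only [map_mul]
          show q (X 0) = q (C (a 0)) * (q (C (a 1)⁻¹) * q (X 1))
          linear_combination (-q (X 0)) * e + q (C (a 1)⁻¹) * hq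
        · simp only [map_mul]
          show q (X 1) = q (C (a 1)) * (q (C (a 1)⁻¹) * q (X 1))
          linear_combination (-q (X 1)) * e
    rw [← Ideal.mem_span_singleton, ← Ideal.Quotient.eq_zero_iff_mem]
    show q F = 0
    conv_lhs => rw [F.as_sum]
    have : ∀ m ∈ F.support, q (monomial m (coeff m F)) =
        q (C (coeff m F * ∏ j, a j ^ m j) * T ^ (n + 1)) := by
      intro m hm
      rw [monomial_eq, Finsupp.prod_fintype _ _ (by simp), map_mul, map_prod]
      simp only [map_pow, hT, map_mul, map_prod, mul_pow, Finset.prod_mul_distrib, Finset.prod_pow_eq_pow_sum]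
      rw [((mem_homogeneousSubmodule _ _).1 hF).degree_eq_sum_deg_support hm,
        Finset.sum_subset (Finset.subset_univ m.support) (by simp)]
      ring
    rw [map_sum, Finset.sum_congr rfl this, ← map_sum, ← Finset.sum_mul, ← map_sum, ← eval_eq', hFa]
    simp
  obtain ⟨G, rfl⟩ := hdvd
  refine ⟨homogeneousComponent n G, homogeneousComponent_mem n G, ?_⟩
  conv_lhs => rw [← homogeneousComponent_of_mem hF (m := n + 1) |>.trans (if_pos rfl)]
  conv_lhs => rw [← sum_homogeneousComponent G, Finset.mul_sum, map_sum]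
  rw [Finset.sum_eq_single n]
  · exact (homogeneousComponent_of_mem (mul_mem_S hL1 (homogeneousComponent_mem n G) (add_comm 1 n))).trans
      (if_pos rfl)
  · intro i _ hi
    exact (homogeneousComponent_of_mem (mul_mem_S hL1 (homogeneousComponent_mem i G) (add_comm 1 i))).trans
      (if_neg (by omega))
  · intro hn
    rw [homogeneousComponent_eq_zero n G (by simpa using hn)]
    simp

/-- A common root gives a common linear factor. -/
theorem exists_common_linear {n : ℕ} {g g' : MvPolynomial (Fin 2) K} (hg : g ∈ S K (n + 1))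
    (hg' : g' ∈ S K (n + 1)) (h : ¬ IsRelPrime g g') :
    ∃ L ∈ S K 1, L ≠ 0 ∧ (∃ G ∈ S K n, g = L * G) ∧ ∃ G ∈ S K n, g' = L * G := by
  simp only [IsRelPrime, not_forall] at h
  obtain ⟨d, ⟨x, rfl⟩, ⟨y, rfl⟩, hd⟩ := h
  obtain ⟨a, ha, hda⟩ := Groth.Agent.L14.RatCurveBinary.exists_zero_of_not_isUnit hd
  obtain ⟨L, hL, hL0, hfac⟩ := exists_linear_dvd ha
  exact ⟨L, hL, hL0, hfac n _ hg (by rw [map_mul, hda, zero_mul]),
    hfac n _ hg' (by rw [map_mul, hda, zero_mul])⟩

/-- Every cubic form has a quadratic factor. -/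
theorem exists_quadratic_factor {g : MvPolynomial (Fin 2) K} (hg : g ∈ S K 3) :
    ∃ e ∈ S K 2, ∃ l ∈ S K 1, g = e * l ∧ (g ≠ 0 → e ≠ 0) := by
  obtain ⟨a, ha, hga⟩ : ∃ a : Fin 2 → K, a ≠ 0 ∧ eval a g = 0 := by
    refine Groth.Agent.L14.RatCurveBinary.exists_zero_of_not_isUnit fun hu => ?_
    have hg0 : g ≠ 0 := hu.ne_zero
    obtain ⟨h, hgh⟩ := hu.exists_right_inv
    have := congrArg MvPolynomial.totalDegree hgh
    rw [totalDegree_mul_of_isDomain hg0 (right_ne_zero_of_mul (hgh ▸ one_ne_zero)),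
      ((mem_homogeneousSubmodule _ _).1 hg).totalDegree hg0, totalDegree_one] at this
    omega
  obtain ⟨L, hL, hL0, hfac⟩ := exists_linear_dvd ha
  obtain ⟨G, hG, rfl⟩ := hfac 2 g hg hga
  exact ⟨G, hG, L, hL, mul_comm _ _, fun h => right_ne_zero_of_mul h⟩

variable (V : Submodule K (MvPolynomial (Fin 2) K)) (hV : V ≤ S K 5)
  (hsep : ∀ e ∈ S K 2, e ≠ 0 → ∀ F ∈ S K 5, ∃ v ∈ V, ∃ h ∈ S K 3, F = v + e * h)

include hV hsep in
omit [IsAlgClosed K] in
lemma sup_eq {e : MvPolynomial (Fin 2) K} (he : e ∈ S K 2) (he0 : e ≠ 0) : V ⊔ mulS e 3 = S K 5 := by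
  refine le_antisymm (sup_le hV (mulS_le he (by norm_num))) fun F hF => ?_
  obtain ⟨v, hv, h, hh, rfl⟩ := hsep e he he0 F hF
  exact add_mem (Submodule.mem_sup_left hv) (Submodule.mem_sup_right ⟨h, hh, rfl⟩)

section Span

omit [IsAlgClosed K]

/-- Linear forms generate the next degree. -/
theorem S_succ_le (n : ℕ) :
    S K (n + 1) ≤ mulS (X 0 : MvPolynomial (Fin 2) K) n ⊔ mulS (X 1) n := by
  have hrel : IsRelPrime (X 0 : MvPolynomial (Fin 2) K) (X 1 ^ (n + 1)) := by
    refine (IsRelPrime.pow_right ?_)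
    rw [(X_prime (R := K) (i := (0 : Fin 2))).irreducible.isRelPrime_iff_not_dvd]
    rintro ⟨c, hc⟩
    have := congrArg (eval ![(0 : K), 1]) hc
    simp at this
  have hX : ∀ i : Fin 2, (X i : MvPolynomial (Fin 2) K) ∈ S K 1 := fun i =>
    (mem_homogeneousSubmodule _ _).2 (isHomogeneous_X K i)
  have hXp : (X 1 ^ (n + 1) : MvPolynomial (Fin 2) K) ∈ S K (n + 1) :=
    (mem_homogeneousSubmodule _ _).2 (isHomogeneous_X_pow 1 (n + 1))
  have h := sup_eq_of_isRelPrime (hX 0) hXp (X_ne_zero _) (pow_ne_zero _ (X_ne_zero _)) hrel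
    (n := n + 1) (by omega) le_rfl (by omega)
  rw [Nat.add_sub_cancel, Nat.sub_self] at h
  rw [← h]
  refine sup_le_sup le_rfl ?_
  rintro _ ⟨y, hy, rfl⟩
  refine ⟨X 1 ^ n * y, mul_mem_S (q := 0) ((mem_homogeneousSubmodule _ _).2 (isHomogeneous_X_pow 1 n)) hy rfl, ?_⟩
  simp only [LinearMap.mulLeft_apply]
  ring

/-- If two forms span degree `n`, they span degree `n + 1`. -/
theorem le_sup_succ {a b : MvPolynomial (Fin 2) K} {i j n : ℕ}
    (h : S K n ≤ mulS a i ⊔ mulS b j) : S K (n + 1) ≤ mulS a (i + 1) ⊔ mulS b (j + 1) := by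
  have key : ∀ k : Fin 2, mulS (X k : MvPolynomial (Fin 2) K) n ≤ mulS a (i + 1) ⊔ mulS b (j + 1) := by
    rintro k _ ⟨F, hF, rfl⟩
    obtain ⟨_, ⟨x, hx, rfl⟩, _, ⟨y, hy, rfl⟩, rfl⟩ := Submodule.mem_sup.1 (h hF)
    simp only [LinearMap.mulLeft_apply, mul_add, mul_left_comm (X k) a, mul_left_comm (X k) b]
    have hXk : (X k : MvPolynomial (Fin 2) K) ∈ S K 1 :=
      (mem_homogeneousSubmodule _ _).2 (isHomogeneous_X K k)
    exact Submodule.add_mem_sup ⟨_, mul_mem_S hXk hx (add_comm _ _), rfl⟩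
      ⟨_, mul_mem_S hXk hy (add_comm _ _), rfl⟩
  exact (S_succ_le n).trans (sup_le (key 0) (key 1))

end Span

/-- A form of degree zero is a constant. -/
lemma eq_C_of_mem_S_zero [DecidableEq K] {x : MvPolynomial (Fin 2) K} (hx : x ∈ S K 0) :
    ∃ c : K, x = C c :=
  ⟨_, (totalDegree_eq_zero_iff_eq_C).1 (Nat.le_zero.1 ((mem_homogeneousSubmodule _ _).1 hx).totalDegree_le)⟩

end Groth.L28.BinaryForm
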